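import Mathlib
import Cfsg.Prelude.Def_Classical

set_option autoImplicit false

/-! Project TT (S5555): definitions for the concrete part (the group `SU_3(2)`). -/

namespace Cfsg.Agent.Lib.Helper28.TT

open Matrix

variable {F : Type*} [Field F]

/-- the matrix of an element of `SU_3(2)` -/
def mat (A : ↥(Cfsg.SU 3 F 2)) : Matrix (Fin 3) (Fin 3) F :=
  ((A : Matrix.SpecialLinearGroup (Fin 3) F) : Matrix (Fin 3) (Fin 3) F)

theorem mat_mul (A B : ↥(Cfsg.SU 3 F 2)) : mat (A * B) = mat A * mat B := rfl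

theorem mat_one : mat (1 : ↥(Cfsg.SU 3 F 2)) = 1 := rfl

theorem mat_injective : Function.Injective (mat : ↥(Cfsg.SU 3 F 2) → Matrix (Fin 3) (Fin 3) F) := by
  intro A B h
  apply Subtype.ext
  apply Subtype.ext
  exact h

theorem mat_det (A : ↥(Cfsg.SU 3 F 2)) : (mat A).det = 1 :=
  (A : Matrix.SpecialLinearGroup (Fin 3) F).2

/-- the defining property of `SU_3(2)`, for the matrix -/
theorem mat_herm (A : ↥(Cfsg.SU 3 F 2)) (u v : Fin 3 → F) :
    Cfsg.hermForm 3 F 2 (mat A *ᵥ u) (mat A *ᵥ v) = Cfsg.hermForm 3 F 2 u v := A.2 u v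

/-- build an element of `SU_3(2)` from a matrix -/
def mk3 (M : Matrix (Fin 3) (Fin 3) F) (hd : M.det = 1)
    (hiso : ∀ u v, Cfsg.hermForm 3 F 2 (M *ᵥ u) (M *ᵥ v) = Cfsg.hermForm 3 F 2 u v) :
    ↥(Cfsg.SU 3 F 2) :=
  ⟨⟨M, hd⟩, hiso⟩

theorem mat_mk3 (M : Matrix (Fin 3) (Fin 3) F) (hd : M.det = 1)
    (hiso : ∀ u v, Cfsg.hermForm 3 F 2 (M *ᵥ u) (M *ᵥ v) = Cfsg.hermForm 3 F 2 u v) :
    mat (mk3 M hd hiso) = M := rfl

/-- each row has at most one nonzero entry -/
def RowMono (M : Matrix (Fin 3) (Fin 3) F) : Prop :=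
  ∀ i j k, M i j ≠ 0 → M i k ≠ 0 → j = k

theorem rowMono_one : RowMono (1 : Matrix (Fin 3) (Fin 3) F) := by
  intro i j k hj hk
  rw [Matrix.one_apply] at hj hk
  have h1 : i = j := by
    by_contra h
    exact hj (if_neg h)
  have h2 : i = k := by
    by_contra h
    exact hk (if_neg h)
  rw [← h1, ← h2]

theorem rowMono_mul {M N : Matrix (Fin 3) (Fin 3) F} (hM : RowMono M) (hN : RowMono N) :
    RowMono (M * N) := by
  intro i j k hj hk
  rw [Matrix.mul_apply] at hj hk
  obtain ⟨a, _, ha⟩ := Finset.exists_ne_zero_of_sum_ne_zero hj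
  obtain ⟨b, _, hb⟩ := Finset.exists_ne_zero_of_sum_ne_zero hk
  have hab : a = b := hM i a b (left_ne_zero_of_mul ha) (left_ne_zero_of_mul hb)
  subst hab
  exact hN a j k (right_ne_zero_of_mul ha) (right_ne_zero_of_mul hb)

theorem rowMono_pow {M : Matrix (Fin 3) (Fin 3) F} (hM : RowMono M) (n : ℕ) :
    RowMono (M ^ n) := by
  induction n with
  | zero => rw [pow_zero]; exact rowMono_one
  | succ n ih => rw [pow_succ]; exact rowMono_mul ih hM

theorem mat_pow (A : ↥(Cfsg.SU 3 F 2)) (n : ℕ) : mat (A ^ n) = mat A ^ n := by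
  induction n with
  | zero => rfl
  | succ n ih => rw [pow_succ, pow_succ, mat_mul, ih]

/-- the monomial subgroup of `SU_3(2)` -/
def monoSub (F : Type*) [Field F] [Finite F] : Subgroup ↥(Cfsg.SU 3 F 2) where
  carrier := {A | RowMono (mat A)}
  mul_mem' := by
    intro A B hA hB
    show RowMono (mat (A * B))
    rw [mat_mul]
    exact rowMono_mul hA hB
  one_mem' := rowMono_one
  inv_mem' := by
    intro A hA
    show RowMono (mat A⁻¹)
    have hfin : IsOfFinOrder A := isOfFinOrder_of_finite A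
    have h1 : A⁻¹ = A ^ (orderOf A - 1) := by
      apply inv_eq_of_mul_eq_one_right
      rw [← pow_succ', Nat.sub_add_cancel hfin.orderOf_pos, pow_orderOf_eq_one]
    rw [h1, mat_pow]
    exact rowMono_pow hA _

theorem mem_monoSub [Finite F] (A : ↥(Cfsg.SU 3 F 2)) : A ∈ monoSub F ↔ RowMono (mat A) :=
  Iff.rfl

/-! ### unitarity as a Gram condition (characteristic 2) -/

/-- entrywise square -/
def sqm (M : Matrix (Fin 3) (Fin 3) F) : Matrix (Fin 3) (Fin 3) F := M.map (fun x => x ^ 2)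

theorem herm_eq (u v : Fin 3 → F) : Cfsg.hermForm 3 F 2 u v = u ⬝ᵥ (fun i => v i ^ 2) := rfl

theorem sq_mulVec [CharP F 2] (M : Matrix (Fin 3) (Fin 3) F) (v : Fin 3 → F) :
    (fun i => (M *ᵥ v) i ^ 2) = sqm M *ᵥ (fun i => v i ^ 2) := by
  funext i
  simp only [Matrix.mulVec, dotProduct, sqm, Matrix.map_apply]
  rw [sum_pow_char 2]
  apply Finset.sum_congr rfl
  intro k _
  rw [mul_pow]

theorem iso_of_gram [CharP F 2] (M : Matrix (Fin 3) (Fin 3) F) (h : Mᵀ * sqm M = 1) (u v : Fin 3 → F) :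
    Cfsg.hermForm 3 F 2 (M *ᵥ u) (M *ᵥ v) = Cfsg.hermForm 3 F 2 u v := by
  rw [herm_eq, herm_eq, sq_mulVec, Matrix.dotProduct_mulVec, Matrix.vecMul_mulVec, ← Matrix.dotProduct_mulVec,
    h, Matrix.one_mulVec]

theorem gram_of_iso (M : Matrix (Fin 3) (Fin 3) F)
    (h : ∀ u v, Cfsg.hermForm 3 F 2 (M *ᵥ u) (M *ᵥ v) = Cfsg.hermForm 3 F 2 u v) :
    Mᵀ * sqm M = 1 := by
  ext i j
  have h1 := h (Pi.single i 1) (Pi.single j 1)
  rw [herm_eq, herm_eq] at h1
  simp only [Matrix.mulVec_single_one] at h1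
  rw [Matrix.mul_apply, Matrix.one_apply]
  simp only [dotProduct, Matrix.col_apply] at h1
  simp only [Matrix.transpose_apply, sqm, Matrix.map_apply]
  rw [h1]
  by_cases hij : i = j
  · subst hij
    rw [if_pos rfl, Finset.sum_eq_single i]
    · simp
    · intro b _ hb
      simp [hb]
    · intro h
      exact absurd (Finset.mem_univ _) h
  · rw [if_neg hij]
    apply Finset.sum_eq_zero
    intro x _
    by_cases hx : x = i
    · subst hx
      have : x ≠ j := hij
      simp [this]
    · simp [hx]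

/-! ### the field with four elements -/
section four
variable {F : Type*} [Field F] [Fintype F]

theorem charTwo (hF : Fintype.card F = 4) : CharP F 2 := by
  obtain ⟨p, hp⟩ := CharP.exists F
  have := hp
  obtain ⟨n, hpp, hn⟩ := FiniteField.card F p
  rw [hF] at hn
  have h2 : p = 2 := by
    have h3 : p ∣ 4 := by
      rw [hn]
      exact dvd_pow_self p n.ne_zero
    have h4 : p ∣ 2 ^ 2 := h3
    exact (Nat.prime_dvd_prime_iff_eq hpp Nat.prime_two).1 (hpp.dvd_of_dvd_pow h4)
  rw [← h2]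
  exact hp

theorem pow_three (hF : Fintype.card F = 4) {x : F} (hx : x ≠ 0) : x ^ 3 = 1 := by
  have h := FiniteField.pow_card_sub_one_eq_one x hx
  rw [hF] at h
  exact h

theorem pow_four (hF : Fintype.card F = 4) (x : F) : x ^ 4 = x := by
  have h := FiniteField.pow_card x
  rw [hF] at h
  exact h

theorem two_eq_zero (hF : Fintype.card F = 4) : (2 : F) = 0 := by
  have := charTwo hF
  exact CharTwo.two_eq_zero

/-- a primitive cube root of unity -/
theorem exists_omega (hF : Fintype.card F = 4) :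
    ∃ w : F, w ^ 2 + w + 1 = 0 ∧ w ≠ 0 ∧ w ≠ 1 ∧ ∀ x : F, x = 0 ∨ x = 1 ∨ x = w ∨ x = w + 1 := by
  classical
  have := charTwo hF
  have h1 : ∃ w : F, w ≠ 0 ∧ w ≠ 1 := by
    by_contra hcon
    push Not at hcon
    have h2 : Fintype.card F ≤ 2 := by
      have : (Finset.univ : Finset F) ⊆ {0, 1} := by
        intro x _
        by_cases hx : x = 0
        · simp [hx]
        · simp [hcon x hx]
      calc Fintype.card F = (Finset.univ : Finset F).card := rfl
        _ ≤ ({0, 1} : Finset F).card := Finset.card_le_card this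
        _ ≤ 2 := Finset.card_le_two
    omega
  obtain ⟨w, hw0, hw1⟩ := h1
  have hw3 := pow_three hF hw0
  have hw : w ^ 2 + w + 1 = 0 := by
    have h2 : (w - 1) * (w ^ 2 + w + 1) = 0 := by
      have : (w - 1) * (w ^ 2 + w + 1) = w ^ 3 - 1 := by ring
      rw [this, hw3, sub_self]
    rcases mul_eq_zero.1 h2 with h3 | h3
    · exact absurd (sub_eq_zero.1 h3) hw1
    · exact h3
  refine ⟨w, hw, hw0, hw1, ?_⟩
  have hinj : ({0, 1, w, w + 1} : Finset F).card = 4 := by
    have hw1' : w + 1 ≠ 0 := by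
      intro h
      apply hw1
      have : w = -1 := eq_neg_of_add_eq_zero_left h
      rw [this, CharTwo.neg_eq]
    have hw1'' : w + 1 ≠ 1 := by
      intro h
      apply hw0
      simp at h
      exact h
    have hw1''' : w + 1 ≠ w := by
      intro h
      have : (1 : F) = 0 := by
        simp at h
      exact one_ne_zero this
    rw [Finset.card_insert_of_notMem, Finset.card_insert_of_notMem, Finset.card_insert_of_notMem,
      Finset.card_singleton]
    · simp only [Finset.mem_singleton]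
      exact fun h => hw1''' h.symm
    · simp only [Finset.mem_insert, Finset.mem_singleton, not_or]
      exact ⟨fun h => hw1 h.symm, fun h => hw1'' h.symm⟩
    · simp only [Finset.mem_insert, Finset.mem_singleton, not_or]
      exact ⟨zero_ne_one, fun h => hw0 h.symm, fun h => hw1' h.symm⟩
  have huniv : ({0, 1, w, w + 1} : Finset F) = Finset.univ := by
    apply Finset.eq_univ_of_card
    rw [hinj, hF]
  intro x
  have hx : x ∈ ({0, 1, w, w + 1} : Finset F) := by
    rw [huniv]
    exact Finset.mem_univ x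
  simpa using hx

end four

end Cfsg.Agent.Lib.Helper28.TT
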