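import Cfsg.Agent.Lib.Helper28.TT.Defs

set_option autoImplicit false

/-! Project TT, piece B1: involutions of `SU_3(2)` are monomial. -/

namespace Cfsg.Agent.Lib.Helper28.TT

open Matrix

variable {F : Type*} [Field F] [Fintype F]

theorem univ3 : ∀ j k l : Fin 3, j ≠ k → j ≠ l → k ≠ l →
    (Finset.univ : Finset (Fin 3)) = {j, k, l} := by decide

theorem inv_rowMono (hF : Fintype.card F = 4) (A : ↥(Cfsg.SU 3 F 2)) (hA : A * A = 1) :
    RowMono (mat A) := by
  classical
  have hc2 := charTwo hF
  have h2 : (2 : F) = 0 := two_eq_zero hF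
  obtain ⟨g, hg⟩ : ∃ g, g = mat A := ⟨_, rfl⟩
  rw [← hg]
  have hgram : gᵀ * sqm g = 1 := by
    rw [hg]
    exact gram_of_iso (mat A) (mat_herm A)
  have hgg : g * g = 1 := by
    rw [hg, ← mat_mul, hA, mat_one]
  have hherm : sqm g = gᵀ := by
    have h1 : gᵀ * gᵀ = 1 := by rw [← Matrix.transpose_mul, hgg, Matrix.transpose_one]
    calc sqm g = (gᵀ * gᵀ) * sqm g := by rw [h1, Matrix.one_mul]
      _ = gᵀ * (gᵀ * sqm g) := Matrix.mul_assoc _ _ _
      _ = gᵀ := by rw [hgram, Matrix.mul_one]
  have hH : ∀ i j, g i j ^ 2 = g j i := by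
    intro i j
    have := congrFun (congrFun hherm i) j
    simpa [sqm] using this
  -- rows are orthonormal
  have hrow : ∀ i j, ∑ k, g i k * g j k ^ 2 = if i = j then 1 else 0 := by
    intro i j
    have h1 : (g * g) i j = (1 : Matrix (Fin 3) (Fin 3) F) i j := by rw [hgg]
    rw [Matrix.mul_apply, Matrix.one_apply] at h1
    rw [← h1]
    apply Finset.sum_congr rfl
    intro k _
    rw [hH j k]
  have hcube : ∀ x : F, x ^ 3 = if x = 0 then 0 else 1 := by
    intro x
    by_cases hx : x = 0
    · rw [if_pos hx, hx]; ring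
    · rw [if_neg hx]; exact pow_three hF hx
  have hrow1 : ∀ i, ∑ k, g i k ^ 3 = 1 := by
    intro i
    have := hrow i i
    rw [if_pos rfl] at this
    rw [← this]
    apply Finset.sum_congr rfl
    intro k _
    ring
  -- step A: two nonzero entries in a row force a full row
  have stepA : ∀ i j k, j ≠ k → g i j ≠ 0 → g i k ≠ 0 → ∀ l, g i l ≠ 0 := by
    intro i j k hjk hj hk l
    by_cases hlj : l = j
    · rw [hlj]; exact hj
    by_cases hlk : l = k
    · rw [hlk]; exact hk
    intro hl
    have h1 := hrow1 i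
    rw [univ3 j k l hjk (Ne.symm hlj) (Ne.symm hlk)] at h1
    rw [Finset.sum_insert, Finset.sum_insert, Finset.sum_singleton, hcube (g i j), hcube (g i k),
      hcube (g i l), if_neg hj, if_neg hk, if_pos hl] at h1
    · have : (2 : F) = 1 := by
        rw [← h1]; ring
      rw [h2] at this
      exact zero_ne_one this
    · simp only [Finset.mem_singleton]
      exact fun h => hlk h.symm
    · simp only [Finset.mem_insert, Finset.mem_singleton, not_or]
      exact ⟨hjk, fun h => hlj h.symm⟩
  -- every row has a nonzero entry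
  have hnz : ∀ i, ∃ m, g i m ≠ 0 := by
    intro i
    by_contra hcon
    push Not at hcon
    have h1 := hrow1 i
    rw [Finset.sum_eq_zero (fun k _ => by rw [hcon k]; ring)] at h1
    exact zero_ne_one h1
  -- step B: one full row forces all rows full
  have stepB : ∀ i, (∀ l, g i l ≠ 0) → ∀ i' l, g i' l ≠ 0 := by
    intro i hi i'
    by_cases hii : i' = i
    · rw [hii]; exact hi
    obtain ⟨m, hm⟩ := hnz i'
    by_cases hother : ∃ m', m' ≠ m ∧ g i' m' ≠ 0
    · obtain ⟨m', hm'm, hm'⟩ := hother
      exact stepA i' m m' (Ne.symm hm'm) hm hm'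
    · push Not at hother
      exfalso
      have h1 := hrow i i'
      rw [if_neg (Ne.symm hii), Finset.sum_eq_single m] at h1
      · rcases mul_eq_zero.1 h1 with h3 | h3
        · exact hi m h3
        · exact hm (pow_eq_zero_iff (by norm_num) |>.1 h3)
      · intro b _ hb
        rw [hother b hb]; ring
      · intro h
        exact absurd (Finset.mem_univ _) h
  -- step C: not all entries are nonzero
  have stepC : ¬ ∀ i l, g i l ≠ 0 := by
    intro hall
    have hdiag : ∀ i, g i i = 1 := by
      intro i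
      have h1 := hH i i
      have h3 : g i i * (g i i - 1) = 0 := by rw [mul_sub, mul_one, ← pow_two, h1, sub_self]
      rcases mul_eq_zero.1 h3 with h4 | h4
      · exact absurd h4 (hall i i)
      · exact sub_eq_zero.1 h4
    have h1 := hrow 0 1
    rw [if_neg (by decide), Fin.sum_univ_three, hdiag 0, hdiag 1, hH 1 0] at h1
    have h3 : g 0 2 * g 1 2 ^ 2 = 0 := by
      have : g 0 2 * g 1 2 ^ 2 = (1 * g 0 1 + g 0 1 * 1 ^ 2 + g 0 2 * g 1 2 ^ 2) - 2 * g 0 1 := by
        ring
      rw [this, h1, h2]; ring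
    rcases mul_eq_zero.1 h3 with h4 | h4
    · exact hall 0 2 h4
    · exact hall 1 2 (pow_eq_zero_iff (by norm_num) |>.1 h4)
  intro i j k hj hk
  by_contra hjk
  exact stepC (stepB i (stepA i j k hjk hj hk))

end Cfsg.Agent.Lib.Helper28.TT
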