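import Cfsg.Agent.Lib.Helper28.TT.B0b

set_option autoImplicit false

/-! Project TT, piece B2: the monomial subgroup of `SU_3(2)` has order 54. -/

namespace Cfsg.Agent.Lib.Helper28.TT

open Matrix

variable {F : Type*} [Field F] [Fintype F]

/-- triples with product one are pairs of units -/
def diagEquiv (F : Type*) [Field F] : {d : Fin 3 → F // ∏ i, d i = 1} ≃ Fˣ × Fˣ where
  toFun d := (Units.mk0 (d.1 0) (ne_zero_of_prod d.2 0), Units.mk0 (d.1 1) (ne_zero_of_prod d.2 1))
  invFun p := ⟨![(p.1 : F), (p.2 : F), ((p.1 : F) * (p.2 : F))⁻¹], by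
    rw [Fin.prod_univ_three]
    have h1 : (p.1 : F) * (p.2 : F) ≠ 0 := mul_ne_zero p.1.ne_zero p.2.ne_zero
    simpa using mul_inv_cancel₀ h1⟩
  left_inv := by
    rintro ⟨d, hd⟩
    apply Subtype.ext
    have h2 : d 2 = (d 0 * d 1)⁻¹ := by
      rw [Fin.prod_univ_three] at hd
      exact eq_inv_of_mul_eq_one_right hd
    funext i
    fin_cases i
    · simp
    · simp
    · simp [h2]
  right_inv := by
    rintro ⟨u, v⟩
    apply Prod.ext
    · apply Units.ext
      simp
    · apply Units.ext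
      simp

theorem card_diag (hF : Fintype.card F = 4) :
    Nat.card {d : Fin 3 → F // ∏ i, d i = 1} = 9 := by
  classical
  rw [Nat.card_congr (diagEquiv F), Nat.card_prod, Nat.card_eq_fintype_card, Fintype.card_units, hF]

/-- the parametrisation of the monomial subgroup -/
noncomputable def monoEquiv (hF : Fintype.card F = 4) :
    Equiv.Perm (Fin 3) × {d : Fin 3 → F // ∏ i, d i = 1} ≃ ↥(monoSub F) :=
  Equiv.ofBijective (fun p => ⟨mono hF p.1 p.2.1 p.2.2, mono_mem hF p.1 p.2.1 p.2.2⟩) (by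
    constructor
    · rintro ⟨π, d, hd⟩ ⟨π', d', hd'⟩ h
      have h1 : mono hF π d hd = mono hF π' d' hd' := congrArg Subtype.val h
      obtain ⟨h2, h3⟩ := mono_inj hF h1
      subst h2
      subst h3
      rfl
    · rintro ⟨A, hA⟩
      obtain ⟨π, d, hd, rfl⟩ := exists_mono hF A hA
      exact ⟨⟨π, d, hd⟩, rfl⟩)

theorem card_monoSub (hF : Fintype.card F = 4) : Nat.card ↥(monoSub F) = 54 := by
  rw [← Nat.card_congr (monoEquiv hF), Nat.card_prod, card_diag hF, Nat.card_eq_fintype_card,
    Fintype.card_perm, Fintype.card_fin]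
  rfl

end Cfsg.Agent.Lib.Helper28.TT
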