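import Cfsg.Agent.Lib.Helper28.TT.B3

set_option autoImplicit false

/-! Project TT, pieces B3b and B6. -/

namespace Cfsg.Agent.Lib.Helper28.TT

open Matrix

variable {F : Type*} [Field F] [Fintype F]

theorem comm_mem {S : Type*} [Group S] (a b : S) : a * b * a⁻¹ * b⁻¹ ∈ commutator S := by
  rw [commutator_def]
  exact Subgroup.commutator_mem_commutator (Subgroup.mem_top a) (Subgroup.mem_top b)

/-- the matrix `A` of the plan -/
def MA (w : F) : Matrix (Fin 3) (Fin 3) F := !![1, w, 1; w, 1, 1; w, w, w + 1]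

/-- the matrix `B` of the plan -/
def MB (w : F) : Matrix (Fin 3) (Fin 3) F := !![w, w + 1, 1; w + 1, w, 1; 1, 1, 1]

omit [Fintype F] in
theorem MA_det {w : F} (hw : w ^ 2 + w + 1 = 0) (h2 : (2 : F) = 0) : (MA w).det = 1 := by
  rw [Matrix.det_fin_three]
  simp [MA]
  grind

omit [Fintype F] in
theorem MB_det {w : F} (hw : w ^ 2 + w + 1 = 0) (h2 : (2 : F) = 0) : (MB w).det = 1 := by
  rw [Matrix.det_fin_three]
  simp [MB]
  grind

omit [Fintype F] in
theorem MA_gram {w : F} (hw : w ^ 2 + w + 1 = 0) (h2 : (2 : F) = 0) :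
    (MA w)ᵀ * sqm (MA w) = 1 := by
  ext i j
  fin_cases i <;> fin_cases j <;>
    simp [MA, sqm, Matrix.mul_apply, Fin.sum_univ_three] <;> grind

omit [Fintype F] in
theorem MB_gram {w : F} (hw : w ^ 2 + w + 1 = 0) (h2 : (2 : F) = 0) :
    (MB w)ᵀ * sqm (MB w) = 1 := by
  ext i j
  fin_cases i <;> fin_cases j <;>
    simp [MB, sqm, Matrix.mul_apply, Fin.sum_univ_three] <;> grind

omit [Fintype F] in
theorem swapM_eq : monoM (Equiv.swap (0 : Fin 3) 1) (fun _ => (1 : F)) =
    !![0, 1, 0; 1, 0, 0; 0, 0, 1] := by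
  ext i j
  fin_cases i <;> fin_cases j <;> simp [monoM_apply, Equiv.swap_apply_def]

omit [Fintype F] in
theorem MAB {w : F} (hw : w ^ 2 + w + 1 = 0) (h2 : (2 : F) = 0) :
    MA w * MB w = monoM (Equiv.swap (0 : Fin 3) 1) (fun _ => (1 : F)) * MB w * MA w := by
  rw [swapM_eq]
  ext i j
  fin_cases i <;> fin_cases j <;>
    simp [MA, MB, Matrix.mul_apply, Fin.sum_univ_three] <;> grind

theorem swap01_comm (hF : Fintype.card F = 4) :
    pmE (F := F) hF (Equiv.swap 0 1) ∈ commutator ↥(Cfsg.SU 3 F 2) := by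
  have hc2 := charTwo hF
  have h2 := two_eq_zero hF
  obtain ⟨w, hw, -, -, -⟩ := exists_omega hF
  obtain ⟨EA, hEA⟩ : ∃ EA : ↥(Cfsg.SU 3 F 2), mat EA = MA w :=
    ⟨mk3 (MA w) (MA_det hw h2) (iso_of_gram _ (MA_gram hw h2)), rfl⟩
  obtain ⟨EB, hEB⟩ : ∃ EB : ↥(Cfsg.SU 3 F 2), mat EB = MB w :=
    ⟨mk3 (MB w) (MB_det hw h2) (iso_of_gram _ (MB_gram hw h2)), rfl⟩
  have h1 : EA * EB = pmE hF (Equiv.swap 0 1) * EB * EA := by
    apply mat_injective
    rw [mat_mul, mat_mul, mat_mul, hEA, hEB]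
    unfold pmE
    rw [mat_mono]
    exact MAB hw h2
  have h3 : pmE hF (Equiv.swap 0 1) = EA * EB * EA⁻¹ * EB⁻¹ := by
    rw [h1]
    group
  rw [h3]
  exact comm_mem EA EB

theorem exists_perm : ∀ a b : Fin 3, a ≠ b → ∃ σ : Equiv.Perm (Fin 3), σ 0 = a ∧ σ 1 = b := by
  decide

theorem swap_comm (hF : Fintype.card F = 4) (a b : Fin 3) :
    pmE (F := F) hF (Equiv.swap a b) ∈ commutator ↥(Cfsg.SU 3 F 2) := by
  by_cases hab : a = b
  · rw [hab, Equiv.swap_self]
    have : pmE (F := F) hF (Equiv.refl (Fin 3)) = 1 := pmE_one hF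
    rw [this]
    exact Subgroup.one_mem _
  · obtain ⟨σ, rfl, rfl⟩ := exists_perm a b hab
    rw [Equiv.swap_apply_apply, ← pmE_mul, ← pmE_mul, ← pmE_inv]
    have h := (inferInstance : (commutator ↥(Cfsg.SU 3 F 2)).Normal).conj_mem _
      (swap01_comm hF) (pmE hF σ)⁻¹
    rw [inv_inv] at h
    rw [← mul_assoc]
    exact h

theorem pm_comm (hF : Fintype.card F = 4) (π : Equiv.Perm (Fin 3)) :
    pmE (F := F) hF π ∈ commutator ↥(Cfsg.SU 3 F 2) := by
  induction π using Equiv.Perm.swap_induction_on with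
  | one => rw [pmE_one]; exact Subgroup.one_mem _
  | swap_mul f x y _ ih =>
    rw [← pmE_mul]
    exact Subgroup.mul_mem _ ih (swap_comm hF x y)

theorem dvec_comm (hF : Fintype.card F = 4) {a b : Fin 3} (hab : a ≠ b) {u : F} (hu : u ≠ 0) :
    dgE hF (dvec a b u) (dvec_prod hab hu) ∈ commutator ↥(Cfsg.SU 3 F 2) := by
  have hu3 := pow_three hF hu
  have hprod' : ∏ i, dvec a b u (Equiv.swap a b i) = 1 := by
    rw [Equiv.prod_comp (Equiv.swap a b) (dvec a b u)]
    exact dvec_prod hab hu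
  have h1 := pm_dg_pm hF (Equiv.swap a b) (dvec a b u) (dvec_prod hab hu) hprod'
  have hinv : (dgE hF (dvec a b u) (dvec_prod hab hu))⁻¹ =
      dgE hF (dvec b a u) (dvec_prod (Ne.symm hab) hu) := by
    apply inv_eq_of_mul_eq_one_right
    rw [dgE_mul hF _ _ _ _ (by simp [dvec_mul_inv hab hu])]
    unfold dgE
    rw [← mono_one hF]
    exact mono_congr hF _ _ rfl (dvec_mul_inv hab hu)
  have h2 : dgE hF (dvec a b u) (dvec_prod hab hu) =
      pmE hF (Equiv.swap a b) * dgE hF (dvec a b u) (dvec_prod hab hu) *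
        (pmE hF (Equiv.swap a b))⁻¹ * (dgE hF (dvec a b u) (dvec_prod hab hu))⁻¹ := by
    rw [pmE_inv, h1, hinv]
    have hsq : ∀ i, dvec a b u (Equiv.swap a b i) * dvec b a u i = dvec a b u i := by
      intro i
      rw [dvec_swap hab]
      unfold dvec
      have hu2 : u⁻¹ * u⁻¹ = u := by
        field_simp
        rw [← hu3]
      by_cases hia : i = a
      · subst hia
        rw [if_neg hab, if_pos rfl, if_pos rfl, hu2]
      · by_cases hib : i = b
        · subst hib
          rw [if_pos rfl, if_neg hia, if_pos rfl]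
          have : u * u = u⁻¹ := by
            field_simp
            rw [← hu3]
          exact this
        · rw [if_neg hib, if_neg hia, if_neg hia, if_neg hib, mul_one]
    rw [dgE_mul hF _ _ _ _ (by
      rw [Finset.prod_congr rfl (fun i _ => hsq i)]
      exact dvec_prod hab hu)]
    exact mono_congr hF _ _ rfl (fun i => (hsq i).symm)
  rw [h2]
  exact comm_mem _ _

theorem monoSub_le_commutator (hF : Fintype.card F = 4) :
    monoSub F ≤ commutator ↥(Cfsg.SU 3 F 2) := by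
  intro A hA
  obtain ⟨π, d, hd, rfl⟩ := exists_mono hF A hA
  rw [mono_eq, dg_split]
  exact Subgroup.mul_mem _ (Subgroup.mul_mem _
    (dvec_comm hF (by decide) (ne_zero_of_prod hd 0))
    (dvec_comm hF (by decide) (mul_ne_zero (ne_zero_of_prod hd 0) (ne_zero_of_prod hd 1))))
    (pm_comm hF π)

/-! ### B6 -/

theorem exists_nc (hF : Fintype.card F = 4) :
    ∃ x ∈ monoSub F, ∃ y ∈ monoSub F, x ^ 3 = 1 ∧ y ^ 3 = 1 ∧ x * y ≠ y * x := by
  obtain ⟨w, hw, hw0, hw1, -⟩ := exists_omega hF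
  have hw3 := pow_three hF hw0
  have hp : ∏ i, dvec (1 : Fin 3) 2 w i = 1 := dvec_prod (by decide) hw0
  refine ⟨pmE hF (finRotate 3), mono_mem hF _ _ _, dgE hF (dvec 1 2 w) hp, mono_mem hF _ _ _,
    ?_, ?_, ?_⟩
  · rw [pow_succ, pow_two, pmE_mul, pmE_mul]
    have : finRotate 3 * (finRotate 3 * finRotate 3) = 1 := by decide
    rw [this, pmE_one]
  · have hcube : ∀ i, dvec (1 : Fin 3) 2 w i * dvec 1 2 w i * dvec 1 2 w i = 1 := by
      intro i
      unfold dvec
      fin_cases i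
      · simp
      · simp
        rw [← hw3]; ring
      · simp
        rw [← mul_inv, ← mul_inv, inv_eq_one, ← hw3]; ring
    rw [pow_succ, pow_two, dgE_mul hF _ _ _ _ (by
      have h5 : ∀ i, dvec (1 : Fin 3) 2 w i * dvec 1 2 w i = dvec 2 1 w i := by
        intro i
        have h6 := hcube i
        have h7 := dvec_mul_inv (a := (1 : Fin 3)) (b := 2) (by decide) hw0 i
        have h8 : dvec (1 : Fin 3) 2 w i ≠ 0 := left_ne_zero_of_mul_eq_one h7
        apply mul_right_cancel₀ h8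
        rw [h6, mul_comm, h7]
      rw [Finset.prod_congr rfl (fun i _ => h5 i)]
      exact dvec_prod (by decide) hw0)]
    rw [dgE_mul hF _ _ _ _ (by simp [hcube])]
    unfold dgE
    rw [← mono_one hF]
    exact mono_congr hF _ _ rfl hcube
  · intro h
    unfold pmE dgE at h
    rw [mono_mul', mono_mul'] at h
    obtain ⟨-, h2⟩ := mono_inj hF h
    have h3 := congrFun h2 0
    simp [dvec] at h3
    exact hw1 h3

end Cfsg.Agent.Lib.Helper28.TT
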