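import Cfsg.Agent.Lib.Helper28.TT.Defs
import Cfsg.Agent.Lib.Helper28.TT.B1
import Cfsg.Agent.Lib.Helper28.TT.B2
import Cfsg.Agent.Lib.Helper28.TT.B3b
import Cfsg.Agent.Lib.Helper24.TTB4

set_option autoImplicit false

/-! Project TT: assembly of Part B: `SU_3(2)' = monoSub`, of order 54. -/

namespace Cfsg.Agent.Lib.Helper28.TT

open Matrix Cfsg.Agent.Lib.Helper24.TT

variable {F : Type*} [Field F] [Fintype F]

/-- the subgroup generated by the involutions is normal -/
theorem closure_inv_normal {S : Type*} [Group S] :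
    (Subgroup.closure {A : S | A * A = 1}).Normal := by
  constructor
  intro n hn g
  induction hn using Subgroup.closure_induction with
  | mem x hx =>
    apply Subgroup.subset_closure
    show g * x * g⁻¹ * (g * x * g⁻¹) = 1
    have hx' : x * x = 1 := hx
    calc g * x * g⁻¹ * (g * x * g⁻¹) = g * (x * x) * g⁻¹ := by group
      _ = 1 := by rw [hx']; group
  | one => simp
  | mul x y _ _ hx hy =>
    have : g * (x * y) * g⁻¹ = (g * x * g⁻¹) * (g * y * g⁻¹) := by group
    rw [this]
    exact Subgroup.mul_mem _ hx hy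
  | inv x _ hx =>
    have : g * x⁻¹ * g⁻¹ = (g * x * g⁻¹)⁻¹ := by group
    rw [this]
    exact Subgroup.inv_mem _ hx

theorem closure_inv_eq_monoSub (hF : Fintype.card F = 4) :
    Subgroup.closure {A : ↥(Cfsg.SU 3 F 2) | A * A = 1} = monoSub F := by
  apply le_antisymm
  · rw [Subgroup.closure_le]
    intro A hA
    exact inv_rowMono hF A hA
  · exact monoSub_le_closure_inv hF

theorem monoSub_normal (hF : Fintype.card F = 4) : (monoSub F).Normal := by
  rw [← closure_inv_eq_monoSub hF]
  exact closure_inv_normal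

theorem commutator_eq_monoSub (hF : Fintype.card F = 4) :
    commutator ↥(Cfsg.SU 3 F 2) = monoSub F := by
  apply le_antisymm
  · have := monoSub_normal hF
    have hidx : (monoSub F).index = 4 := by
      have h1 := Subgroup.card_mul_index (monoSub F)
      rw [card_monoSub hF, card_SU32 hF] at h1
      omega
    have hcard : Nat.card (↥(Cfsg.SU 3 F 2) ⧸ monoSub F) = 2 ^ 2 := by
      rw [← Subgroup.index_eq_card, hidx]
      norm_num
    have : Fact (Nat.Prime 2) := ⟨Nat.prime_two⟩
    have hcomm := (IsPGroup.isMulCommutative_of_card_eq_prime_sq hcard).is_comm.comm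
    rw [commutator_eq_closure, Subgroup.closure_le]
    rintro _ ⟨a, b, rfl⟩
    have h2 : ((a * b * a⁻¹ * b⁻¹ : ↥(Cfsg.SU 3 F 2)) : ↥(Cfsg.SU 3 F 2) ⧸ monoSub F) = 1 := by
      simp only [QuotientGroup.mk_mul, QuotientGroup.mk_inv]
      rw [hcomm (a : ↥(Cfsg.SU 3 F 2) ⧸ monoSub F) b]
      group
    exact (QuotientGroup.eq_one_iff _).1 h2
  · exact monoSub_le_commutator hF

theorem comm_facts (hF : Fintype.card F = 4) :
    Nat.card ↥(commutator ↥(Cfsg.SU 3 F 2)) = 54 ∧
      ∃ x y : ↥(commutator ↥(Cfsg.SU 3 F 2)), x ^ 3 = 1 ∧ y ^ 3 = 1 ∧ x * y ≠ y * x := by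
  rw [commutator_eq_monoSub hF]
  refine ⟨card_monoSub hF, ?_⟩
  obtain ⟨x, hx, y, hy, hx3, hy3, hxy⟩ := exists_nc (F := F) hF
  refine ⟨⟨x, hx⟩, ⟨y, hy⟩, ?_, ?_, ?_⟩
  · apply Subtype.ext
    simpa using hx3
  · apply Subtype.ext
    simpa using hy3
  · intro h
    apply hxy
    have := congrArg Subtype.val h
    simpa using this

end Cfsg.Agent.Lib.Helper28.TT
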