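import Cfsg.Agent.Lib.Helper28.TT.Defs
import Cfsg.Agent.Lib.Helper25.TTA2
import Cfsg.Agent.Lib.Helper24.TTA3
import Cfsg.Prelude.Def_SporadicB

set_option autoImplicit false

/-! Project TT: abstract assembly: a normal subgroup `Q` with quotient of order 54 (nonabelian
Sylow 3) in a group generated by a class of 3-transpositions has a complement. -/

namespace Cfsg.Agent.Lib.Helper28.TT

open Cfsg.Agent.Lib.Helper25.TT Cfsg.Agent.Lib.Helper24.TT

theorem mem_conj_iff {G : Type*} [Group G] (a x : G) : x ∈ conjugatesOf a ↔ IsConj a x :=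
  Iff.rfl

theorem complement_of_quot54 {G : Type*} [Group G] [Finite G] {D : Set G}
    (hD : Cfsg.IsThreeTranspositionClass D) (Q : Subgroup G) [Q.Normal]
    (hcard : Nat.card (G ⧸ Q) = 54)
    (hnc : ∃ x y : G ⧸ Q, x ^ 3 = 1 ∧ y ^ 3 = 1 ∧ x * y ≠ y * x) :
    ∃ K : Subgroup G, Q.IsComplement' K := by
  obtain ⟨⟨hord, h23⟩, ⟨d₀, hd₀D, hDconj⟩, hgen⟩ := hD
  have hsq : ∀ d ∈ D, d ^ 2 = 1 := by
    intro d hd
    rw [← hord d hd]
    exact pow_orderOf_eq_one d
  have hinv : ∀ d ∈ D, d⁻¹ = d := by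
    intro d hd
    have h := hsq d hd
    rw [pow_two] at h
    exact inv_eq_of_mul_eq_one_right h
  have hconjD : ∀ g : G, ∀ d ∈ D, g * d * g⁻¹ ∈ D := by
    intro g d hd
    rw [hDconj] at hd ⊢
    rw [mem_conj_iff] at hd ⊢
    exact hd.trans (isConj_iff.2 ⟨g, rfl⟩)
  set π : G →* G ⧸ Q := QuotientGroup.mk' Q with hπ
  have hπs : Function.Surjective π := QuotientGroup.mk'_surjective Q
  -- the image class
  have hE : π '' D = conjugatesOf (π d₀) := by
    ext y
    constructor
    · rintro ⟨d, hd, rfl⟩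
      rw [hDconj, mem_conj_iff] at hd
      rw [mem_conj_iff]
      exact MonoidHom.map_isConj π hd
    · intro hy
      rw [mem_conj_iff, isConj_iff] at hy
      obtain ⟨c, hc⟩ := hy
      obtain ⟨g, rfl⟩ := hπs c
      refine ⟨g * d₀ * g⁻¹, hconjD g d₀ hd₀D, ?_⟩
      rw [← hc, map_mul, map_mul, map_inv]
  have hgenE : Subgroup.closure (π '' D) = ⊤ := by
    rw [← MonoidHom.map_closure, hgen, ← MonoidHom.range_eq_map, MonoidHom.range_eq_top]
    exact hπs
  have h3E : ∀ d ∈ π '' D, ∀ e ∈ π '' D, (d * e) ^ 2 = 1 ∨ (d * e) ^ 3 = 1 := by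
    rintro _ ⟨d, hd, rfl⟩ _ ⟨e, he, rfl⟩
    rcases h23 d hd e he with h | h
    · left
      rw [← map_mul, ← map_pow, h, map_one]
    · right
      rw [← map_mul, ← map_pow, h, map_one]
  have hd₀2 : (π d₀) ^ 2 = 1 := by rw [← map_pow, hsq d₀ hd₀D, map_one]
  obtain ⟨_, ⟨d, hd, rfl⟩, _, ⟨e, he, rfl⟩, _, ⟨f, hf, rfl⟩, hgen3, hde, hef, hfd, h4⟩ :=
    exists_triple hcard (π '' D) (π d₀) hd₀2 hE hgenE h3E hnc
  -- relations upstairs
  have hlift : ∀ a ∈ D, ∀ b ∈ D, (π a * π b) ^ 2 ≠ 1 → (a * b) ^ 3 = 1 := by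
    intro a ha b hb hne
    rcases h23 a ha b hb with h | h
    · exfalso
      apply hne
      rw [← map_mul, ← map_pow, h, map_one]
    · exact h
  have hefe : e * f * e ∈ D := by
    have := hconjD e f hf
    rwa [hinv e he] at this
  have r1 := hlift d hd e he hde
  have r2 := hlift e he f hf hef
  have r3 := hlift f hf d hd hfd
  have r4 := hlift d hd (e * f * e) hefe (by
    rw [map_mul, map_mul]
    exact h4)
  obtain ⟨s, hs54, hs⟩ := k54_bound d e f (hsq d hd) (hsq e he) (hsq f hf) r1 r2 r3 r4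
  set K : Subgroup G := Subgroup.closure ({d, e, f} : Set G) with hK
  refine ⟨K, ?_⟩
  have hKcard : Nat.card K ≤ 54 := by
    have h1 : (K : Set G) ⊆ (s : Set G) := fun g hg => hs g hg
    have h2 : Nat.card K = (K : Set G).ncard := (Nat.card_coe_set_eq _)
    rw [h2]
    calc (K : Set G).ncard ≤ (s : Set G).ncard := Set.ncard_le_ncard h1 s.finite_toSet
      _ = s.card := Set.ncard_coe_finset s
      _ ≤ 54 := hs54
  have hKmap : K.map π = ⊤ := by
    rw [hK, MonoidHom.map_closure]
    have : π '' ({d, e, f} : Set G) = {π d, π e, π f} := by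
      simp [Set.image_insert_eq]
    rw [this]
    exact hgen3
  -- the restriction of π to K is surjective, hence bijective
  let ρ : K →* G ⧸ Q := π.comp K.subtype
  have hρs : Function.Surjective ρ := by
    intro y
    have hy : y ∈ K.map π := by rw [hKmap]; exact Subgroup.mem_top y
    obtain ⟨g, hg, rfl⟩ := hy
    exact ⟨⟨g, hg⟩, rfl⟩
  have hK54 : Nat.card K = 54 := by
    apply le_antisymm hKcard
    rw [← hcard]
    exact Nat.card_le_card_of_surjective ρ hρs
  have hρi : Function.Injective ρ := by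
    have hb : Function.Bijective ρ := by
      rw [Nat.bijective_iff_surjective_and_card]
      exact ⟨hρs, by rw [hK54, hcard]⟩
    exact hb.1
  have hdisj : Disjoint Q K := by
    rw [Subgroup.disjoint_def]
    intro g hgQ hgK
    have h1 : ρ ⟨g, hgK⟩ = ρ 1 := by
      rw [map_one]
      show π g = 1
      rw [hπ, QuotientGroup.mk'_apply, QuotientGroup.eq_one_iff]
      exact hgQ
    have h2 := hρi h1
    exact congrArg Subtype.val h2
  apply Subgroup.isComplement'_of_card_mul_and_disjoint _ hdisj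
  rw [hK54, ← hcard, mul_comm]
  exact (Subgroup.card_eq_card_quotient_mul_card_subgroup Q).symm

end Cfsg.Agent.Lib.Helper28.TT
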