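import Cfsg.Agent.Lib.Helper28.TT.Defs

set_option autoImplicit false

/-! Project TT, toolkit for Part B: monomial matrices `monoM π d` and the elements `mono` of
`SU_3(2)` they define. -/

namespace Cfsg.Agent.Lib.Helper28.TT

open Matrix

variable {F : Type*} [Field F]

/-- the monomial matrix with entry `d i` at `(i, π i)` -/
def monoM (π : Equiv.Perm (Fin 3)) (d : Fin 3 → F) : Matrix (Fin 3) (Fin 3) F :=
  fun i j => if π i = j then d i else 0

theorem monoM_apply (π : Equiv.Perm (Fin 3)) (d : Fin 3 → F) (i j : Fin 3) :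
    monoM π d i j = if π i = j then d i else 0 := rfl

theorem monoM_eq (π : Equiv.Perm (Fin 3)) (d : Fin 3 → F) :
    monoM π d = Matrix.diagonal d * π.permMatrix F := by
  ext i j
  rw [Matrix.diagonal_mul, monoM_apply]
  show _ = d i * (π.toPEquiv.toMatrix i j)
  rw [PEquiv.toMatrix_apply, Equiv.toPEquiv_apply]
  by_cases h : π i = j
  · rw [if_pos h, if_pos (by rw [h]; exact Option.mem_some_self j), mul_one]
  · rw [if_neg h, if_neg (by simpa using fun h' => h h'), mul_zero]

theorem monoM_mul (π π' : Equiv.Perm (Fin 3)) (d d' : Fin 3 → F) :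
    monoM π d * monoM π' d' = monoM (π' * π) (fun i => d i * d' (π i)) := by
  ext i j
  rw [Matrix.mul_apply, Finset.sum_eq_single (π i)]
  · rw [monoM_apply, monoM_apply, monoM_apply, if_pos rfl, Equiv.Perm.mul_apply]
    by_cases h : π' (π i) = j
    · rw [if_pos h, if_pos h]
    · rw [if_neg h, if_neg h, mul_zero]
  · intro b _ hb
    rw [monoM_apply, if_neg (Ne.symm hb), zero_mul]
  · intro h
    exact absurd (Finset.mem_univ _) h

theorem monoM_one : monoM (1 : Equiv.Perm (Fin 3)) (fun _ => (1 : F)) = 1 := by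
  ext i j
  rw [monoM_apply, Matrix.one_apply]
  rfl

theorem monoM_det [CharP F 2] (π : Equiv.Perm (Fin 3)) (d : Fin 3 → F) :
    (monoM π d).det = ∏ i, d i := by
  rw [monoM_eq, Matrix.det_mul, Matrix.det_diagonal, Matrix.det_permutation]
  rcases Int.units_eq_one_or (Equiv.Perm.sign π) with h | h
  · rw [h]; simp
  · rw [h]
    simp [CharTwo.neg_eq]

theorem rowMono_monoM (π : Equiv.Perm (Fin 3)) (d : Fin 3 → F) : RowMono (monoM π d) := by
  intro i j k hj hk
  rw [monoM_apply] at hj hk
  have h1 : π i = j := by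
    by_contra h
    exact hj (if_neg h)
  have h2 : π i = k := by
    by_contra h
    exact hk (if_neg h)
  rw [← h1, ← h2]

theorem monoM_inj {π π' : Equiv.Perm (Fin 3)} {d d' : Fin 3 → F} (hd : ∀ i, d i ≠ 0)
    (h : monoM π d = monoM π' d') : π = π' ∧ d = d' := by
  have h1 : ∀ i, π' i = π i := by
    intro i
    have h2 := congrFun (congrFun h i) (π i)
    rw [monoM_apply, monoM_apply, if_pos rfl] at h2
    by_contra hne
    rw [if_neg hne] at h2
    exact hd i h2
  have hπ : π = π' := by
    ext i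
    rw [h1 i]
  refine ⟨hπ, ?_⟩
  funext i
  have h2 := congrFun (congrFun h i) (π i)
  rw [monoM_apply, monoM_apply, if_pos rfl, if_pos (h1 i)] at h2
  exact h2

section four

variable [Fintype F]

theorem monoM_gram (hF : Fintype.card F = 4) (π : Equiv.Perm (Fin 3)) (d : Fin 3 → F)
    (hd : ∀ i, d i ≠ 0) : (monoM π d)ᵀ * sqm (monoM π d) = 1 := by
  ext i j
  rw [Matrix.mul_apply, Finset.sum_eq_single (π.symm i)]
  · rw [Matrix.transpose_apply, monoM_apply, Equiv.apply_symm_apply, if_pos rfl]
    simp only [sqm, Matrix.map_apply, monoM_apply, Equiv.apply_symm_apply]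
    rw [Matrix.one_apply]
    by_cases hij : i = j
    · rw [if_pos hij, if_pos hij, ← pow_succ']
      exact pow_three hF (hd _)
    · rw [if_neg hij, if_neg hij]
      ring
  · intro b _ hb
    rw [Matrix.transpose_apply, monoM_apply, if_neg, zero_mul]
    intro h
    apply hb
    rw [← h, Equiv.symm_apply_apply]
  · intro h
    exact absurd (Finset.mem_univ _) h

omit [Fintype F] in
theorem ne_zero_of_prod {d : Fin 3 → F} (hd : ∏ i, d i = 1) (i : Fin 3) : d i ≠ 0 := by
  intro h
  have : ∏ i, d i = 0 := Finset.prod_eq_zero (Finset.mem_univ i) h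
  rw [hd] at this
  exact one_ne_zero this

/-- the element of `SU_3(2)` with matrix `monoM π d` -/
def mono (hF : Fintype.card F = 4) (π : Equiv.Perm (Fin 3)) (d : Fin 3 → F)
    (hd : ∏ i, d i = 1) : ↥(Cfsg.SU 3 F 2) :=
  haveI := charTwo hF
  mk3 (monoM π d) (by rw [monoM_det, hd])
    (iso_of_gram _ (monoM_gram hF π d (ne_zero_of_prod hd)))

theorem mat_mono (hF : Fintype.card F = 4) (π : Equiv.Perm (Fin 3)) (d : Fin 3 → F)
    (hd : ∏ i, d i = 1) : mat (mono hF π d hd) = monoM π d := rfl

theorem mono_mem (hF : Fintype.card F = 4) (π : Equiv.Perm (Fin 3)) (d : Fin 3 → F)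
    (hd : ∏ i, d i = 1) : mono hF π d hd ∈ monoSub F := by
  rw [mem_monoSub, mat_mono]
  exact rowMono_monoM π d

theorem mono_mul (hF : Fintype.card F = 4) (π π' : Equiv.Perm (Fin 3)) (d d' : Fin 3 → F)
    (hd : ∏ i, d i = 1) (hd' : ∏ i, d' i = 1) (hdd : ∏ i, d i * d' (π i) = 1) :
    mono hF π d hd * mono hF π' d' hd' = mono hF (π' * π) (fun i => d i * d' (π i)) hdd := by
  apply mat_injective
  rw [mat_mul, mat_mono, mat_mono, mat_mono, monoM_mul]

omit [Fintype F] in
theorem prod_mul_perm (π : Equiv.Perm (Fin 3)) (d d' : Fin 3 → F)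
    (hd : ∏ i, d i = 1) (hd' : ∏ i, d' i = 1) : ∏ i, d i * d' (π i) = 1 := by
  rw [Finset.prod_mul_distrib, hd, one_mul, Equiv.prod_comp π d', hd']

theorem mono_one (hF : Fintype.card F = 4) :
    mono hF 1 (fun _ => (1 : F)) (by simp) = 1 := by
  apply mat_injective
  rw [mat_mono, mat_one, monoM_one]

end four

end Cfsg.Agent.Lib.Helper28.TT
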