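import Cfsg.Agent.Lib.Helper28.TT.B0

set_option autoImplicit false

/-! Project TT, toolkit for Part B: every element of `monoSub` is a `mono π d`. -/

namespace Cfsg.Agent.Lib.Helper28.TT

open Matrix

variable {F : Type*} [Field F] [Fintype F]

/-- rows of a unitary matrix are orthonormal -/
theorem row_orth (A : ↥(Cfsg.SU 3 F 2)) (i j : Fin 3) :
    ∑ k, mat A i k * mat A j k ^ 2 = if i = j then 1 else 0 := by
  have h1 : (mat A)ᵀ * sqm (mat A) = 1 := gram_of_iso (mat A) (mat_herm A)
  have h2 : (sqm (mat A))ᵀ * mat A = 1 := by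
    rw [← Matrix.transpose_one, ← h1, Matrix.transpose_mul, Matrix.transpose_transpose]
  have h3 : mat A * (sqm (mat A))ᵀ = 1 := mul_eq_one_comm.1 h2
  have h4 := congrFun (congrFun h3 i) j
  rw [Matrix.mul_apply, Matrix.one_apply] at h4
  rw [← h4]
  rfl

theorem exists_mono (hF : Fintype.card F = 4) (A : ↥(Cfsg.SU 3 F 2)) (hA : A ∈ monoSub F) :
    ∃ (π : Equiv.Perm (Fin 3)) (d : Fin 3 → F) (hd : ∏ i, d i = 1), A = mono hF π d hd := by
  have hc2 := charTwo hF
  rw [mem_monoSub] at hA
  have hnz : ∀ i, ∃ m, mat A i m ≠ 0 := by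
    intro i
    by_contra hcon
    push Not at hcon
    have h1 := row_orth A i i
    rw [if_pos rfl, Finset.sum_eq_zero (fun k _ => by rw [hcon k]; ring)] at h1
    exact zero_ne_one h1
  choose k hk using hnz
  have hzero : ∀ i l, l ≠ k i → mat A i l = 0 := by
    intro i l hl
    by_contra h
    exact hl (hA i l (k i) h (hk i))
  have hinj : Function.Injective k := by
    intro i i' hii
    by_contra hne
    have h1 := row_orth A i i'
    rw [if_neg hne, Finset.sum_eq_single (k i)] at h1
    · rcases mul_eq_zero.1 h1 with h3 | h3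
      · exact hk i h3
      · apply hk i'
        rw [← hii]
        exact pow_eq_zero_iff (by norm_num) |>.1 h3
    · intro b _ hb
      rw [hzero i b hb, zero_mul]
    · intro h
      exact absurd (Finset.mem_univ _) h
  have hbij : Function.Bijective k := Finite.injective_iff_bijective.1 hinj
  obtain ⟨π, hπ⟩ : ∃ π : Equiv.Perm (Fin 3), ∀ i, π i = k i :=
    ⟨Equiv.ofBijective k hbij, fun i => rfl⟩
  have hM : mat A = monoM π (fun i => mat A i (k i)) := by
    ext i j
    rw [monoM_apply, hπ]
    by_cases h : k i = j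
    · rw [if_pos h, h]
    · rw [if_neg h]
      exact hzero i j (Ne.symm h)
  have hd : ∏ i, mat A i (k i) = 1 := by
    rw [← monoM_det π, ← hM]
    exact mat_det A
  refine ⟨π, fun i => mat A i (k i), hd, ?_⟩
  apply mat_injective
  rw [mat_mono]
  exact hM

theorem mono_inj (hF : Fintype.card F = 4) {π π' : Equiv.Perm (Fin 3)} {d d' : Fin 3 → F}
    {hd : ∏ i, d i = 1} {hd' : ∏ i, d' i = 1} (h : mono hF π d hd = mono hF π' d' hd') :
    π = π' ∧ d = d' := by
  apply monoM_inj (ne_zero_of_prod hd)
  have := congrArg mat h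
  rwa [mat_mono, mat_mono] at this

end Cfsg.Agent.Lib.Helper28.TT
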