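import Cfsg.Agent.Lib.Helper28.TT.B0b

set_option autoImplicit false

/-! Project TT, pieces B3a, B3b, B6: the monomial subgroup of `SU_3(2)` is generated by involutions,
lies in the derived subgroup, and contains two non-commuting elements of order 3. -/

namespace Cfsg.Agent.Lib.Helper28.TT

open Matrix

variable {F : Type*} [Field F] [Fintype F]

theorem mono_congr (hF : Fintype.card F = 4) {π π' : Equiv.Perm (Fin 3)} {d d' : Fin 3 → F}
    (hd : ∏ i, d i = 1) (hd' : ∏ i, d' i = 1) (hπ : π = π') (hdd : ∀ i, d i = d' i) :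
    mono hF π d hd = mono hF π' d' hd' := by
  subst hπ
  have : d = d' := funext hdd
  subst this
  rfl

theorem mono_mul' (hF : Fintype.card F = 4) (π π' : Equiv.Perm (Fin 3)) (d d' : Fin 3 → F)
    (hd : ∏ i, d i = 1) (hd' : ∏ i, d' i = 1) :
    mono hF π d hd * mono hF π' d' hd' =
      mono hF (π' * π) (fun i => d i * d' (π i)) (prod_mul_perm π d d' hd hd') :=
  mono_mul hF π π' d d' hd hd' _

/-- permutation elements -/
def pmE (hF : Fintype.card F = 4) (π : Equiv.Perm (Fin 3)) : ↥(Cfsg.SU 3 F 2) :=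
  mono hF π (fun _ => 1) (by simp)

/-- diagonal elements -/
def dgE (hF : Fintype.card F = 4) (d : Fin 3 → F) (hd : ∏ i, d i = 1) : ↥(Cfsg.SU 3 F 2) :=
  mono hF 1 d hd

theorem mono_eq (hF : Fintype.card F = 4) (π : Equiv.Perm (Fin 3)) (d : Fin 3 → F)
    (hd : ∏ i, d i = 1) : mono hF π d hd = dgE hF d hd * pmE hF π := by
  unfold dgE pmE
  rw [mono_mul']
  exact mono_congr hF _ _ (by simp) (fun i => by simp)

theorem pmE_mul (hF : Fintype.card F = 4) (π π' : Equiv.Perm (Fin 3)) :
    pmE (F := F) hF π * pmE hF π' = pmE hF (π' * π) := by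
  unfold pmE
  rw [mono_mul']
  exact mono_congr hF _ _ rfl (fun i => by simp)

theorem pmE_one (hF : Fintype.card F = 4) : pmE (F := F) hF 1 = 1 := mono_one hF

theorem pmE_inv (hF : Fintype.card F = 4) (π : Equiv.Perm (Fin 3)) :
    (pmE (F := F) hF π)⁻¹ = pmE hF π⁻¹ := by
  apply inv_eq_of_mul_eq_one_right
  rw [pmE_mul, inv_mul_cancel, pmE_one]

theorem dgE_mul (hF : Fintype.card F = 4) (d d' : Fin 3 → F) (hd : ∏ i, d i = 1)
    (hd' : ∏ i, d' i = 1) (hdd : ∏ i, d i * d' i = 1) :
    dgE hF d hd * dgE hF d' hd' = dgE hF (fun i => d i * d' i) hdd := by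
  unfold dgE
  rw [mono_mul']
  exact mono_congr hF _ _ (by simp) (fun i => by simp)

/-- conjugating a diagonal element by a permutation element -/
theorem pm_dg_pm (hF : Fintype.card F = 4) (π : Equiv.Perm (Fin 3)) (d : Fin 3 → F)
    (hd : ∏ i, d i = 1) (hd' : ∏ i, d (π i) = 1) :
    pmE hF π * dgE hF d hd * pmE hF π⁻¹ = dgE hF (fun i => d (π i)) hd' := by
  unfold dgE pmE
  rw [mono_mul', mono_mul']
  exact mono_congr hF _ _ (by simp) (fun i => by simp)

/-! ### B3a -/

theorem swap_inv_mem (hF : Fintype.card F = 4) (a b : Fin 3) :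
    pmE (F := F) hF (Equiv.swap a b) ∈
      Subgroup.closure {A : ↥(Cfsg.SU 3 F 2) | A * A = 1} := by
  apply Subgroup.subset_closure
  show pmE hF (Equiv.swap a b) * pmE hF (Equiv.swap a b) = 1
  rw [pmE_mul, Equiv.swap_mul_self, pmE_one]

theorem pm_inv_mem (hF : Fintype.card F = 4) (π : Equiv.Perm (Fin 3)) :
    pmE (F := F) hF π ∈ Subgroup.closure {A : ↥(Cfsg.SU 3 F 2) | A * A = 1} := by
  induction π using Equiv.Perm.swap_induction_on with
  | one => rw [pmE_one]; exact Subgroup.one_mem _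
  | swap_mul f x y _ ih =>
    rw [← pmE_mul]
    exact Subgroup.mul_mem _ ih (swap_inv_mem hF x y)

/-- the two-coordinate diagonal vectors -/
def dvec (a b : Fin 3) (u : F) : Fin 3 → F :=
  fun i => if i = a then u else if i = b then u⁻¹ else 1

omit [Fintype F] in
theorem dvec_prod {a b : Fin 3} (hab : a ≠ b) {u : F} (hu : u ≠ 0) :
    ∏ i, dvec a b u i = 1 := by
  rw [Fin.prod_univ_three]
  unfold dvec
  fin_cases a <;> fin_cases b <;> simp_all

omit [Fintype F] in
theorem dvec_swap {a b : Fin 3} (hab : a ≠ b) (u : F) (i : Fin 3) :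
    dvec a b u (Equiv.swap a b i) = dvec b a u i := by
  unfold dvec
  by_cases hia : i = a
  · subst hia
    rw [Equiv.swap_apply_left, if_neg (Ne.symm hab), if_pos rfl, if_neg hab, if_pos rfl]
  · by_cases hib : i = b
    · subst hib
      rw [Equiv.swap_apply_right, if_pos rfl, if_pos rfl]
    · rw [Equiv.swap_apply_of_ne_of_ne hia hib, if_neg hia, if_neg hib, if_neg hib, if_neg hia]

omit [Fintype F] in
theorem dvec_mul_inv {a b : Fin 3} (hab : a ≠ b) {u : F} (hu : u ≠ 0) (i : Fin 3) :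
    dvec a b u i * dvec b a u i = 1 := by
  unfold dvec
  by_cases hia : i = a
  · subst hia
    rw [if_pos rfl, if_neg hab, if_pos rfl, mul_inv_cancel₀ hu]
  · by_cases hib : i = b
    · subst hib
      rw [if_neg hia, if_pos rfl, if_pos rfl, inv_mul_cancel₀ hu]
    · rw [if_neg hia, if_neg hib, if_neg hib, if_neg hia, mul_one]

/-- `dgE (dvec a b u)` is a product of two involutions -/
theorem dvec_inv_mem (hF : Fintype.card F = 4) {a b : Fin 3} (hab : a ≠ b) {u : F} (hu : u ≠ 0) :
    dgE hF (dvec a b u) (dvec_prod hab hu) ∈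
      Subgroup.closure {A : ↥(Cfsg.SU 3 F 2) | A * A = 1} := by
  have h1 : dgE hF (dvec a b u) (dvec_prod hab hu) =
      mono hF (Equiv.swap a b) (dvec a b u) (dvec_prod hab hu) * pmE hF (Equiv.swap a b) := by
    unfold dgE pmE
    rw [mono_mul']
    exact mono_congr hF _ _ (by rw [Equiv.swap_mul_self]) (fun i => by simp)
  rw [h1]
  apply Subgroup.mul_mem _ _ (swap_inv_mem hF a b)
  apply Subgroup.subset_closure
  show mono hF (Equiv.swap a b) (dvec a b u) _ * mono hF (Equiv.swap a b) (dvec a b u) _ = 1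
  rw [mono_mul', ← mono_one hF]
  exact mono_congr hF _ _ (by rw [Equiv.swap_mul_self]) (fun i => by
    rw [dvec_swap hab]
    exact dvec_mul_inv hab hu i)

omit [Fintype F] in
/-- every diagonal vector with product one is a product of two `dvec`s -/
theorem diag_split {d : Fin 3 → F} (hd : ∏ i, d i = 1) (i : Fin 3) :
    d i = dvec 0 1 (d 0) i * dvec 1 2 (d 0 * d 1) i := by
  have h0 := ne_zero_of_prod hd 0
  have h1 := ne_zero_of_prod hd 1
  have h2 : d 2 = (d 0 * d 1)⁻¹ := by
    rw [Fin.prod_univ_three] at hd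
    exact eq_inv_of_mul_eq_one_right hd
  unfold dvec
  fin_cases i
  · simp
  · simp
    field_simp
  · simp [h2]

theorem dg_split (hF : Fintype.card F = 4) (d : Fin 3 → F) (hd : ∏ i, d i = 1) :
    dgE hF d hd = dgE hF (dvec 0 1 (d 0)) (dvec_prod (by decide) (ne_zero_of_prod hd 0)) *
      dgE hF (dvec 1 2 (d 0 * d 1))
        (dvec_prod (by decide) (mul_ne_zero (ne_zero_of_prod hd 0) (ne_zero_of_prod hd 1))) := by
  rw [dgE_mul hF _ _ _ _ (by
    rw [← hd]
    exact Finset.prod_congr rfl (fun i _ => (diag_split hd i).symm))]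
  exact mono_congr hF _ _ rfl (diag_split hd)

theorem monoSub_le_closure_inv (hF : Fintype.card F = 4) :
    monoSub F ≤ Subgroup.closure {A : ↥(Cfsg.SU 3 F 2) | A * A = 1} := by
  intro A hA
  obtain ⟨π, d, hd, rfl⟩ := exists_mono hF A hA
  rw [mono_eq, dg_split]
  exact Subgroup.mul_mem _ (Subgroup.mul_mem _
    (dvec_inv_mem hF (by decide) (ne_zero_of_prod hd 0))
    (dvec_inv_mem hF (by decide) (mul_ne_zero (ne_zero_of_prod hd 0) (ne_zero_of_prod hd 1))))
    (pm_inv_mem hF π)

end Cfsg.Agent.Lib.Helper28.TT
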